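import Groth.Agent.L24.Kleiman.Main
import Groth.Agent.L00.ReducedSub
import Groth.Agent.S19416

/-!
# Translates of closed subvarieties of a homogeneous space meet properly
-/

set_option autoImplicit false
set_option linter.style.haveILetI false
set_option backward.isDefEq.respectTransparency.types false

universe u

open CategoryTheory CategoryTheory.Limits MonoidalCategory CartesianMonoidalCategory MonObj AlgebraicGeometry
open TopologicalSpace Topology

namespace Groth.L24.Kleiman

variable {K : Type u} [Field K] [IsAlgClosed K]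

/-- A non-empty locally closed subset contains, relatively openly, a smooth integral subvariety. -/
theorem exists_smooth_piece {X : Over (Spec (CommRingCat.of K))} [LocallyOfFiniteType X.hom] [QuasiCompact X.hom]
    (C : Set X.left) (hC : IsClosed C) (hne : C.Nonempty) :
    ∃ (P : Over (Spec (CommRingCat.of K))) (j : P ⟶ X) (_ : IsImmersion j.left) (_ : IsIntegral P.left)
      (_ : Smooth P.hom) (_ : QuasiCompact P.hom),
      Set.range j.left ⊆ C ∧ (Set.range j.left).Nonempty ∧ IsClosed (C \ Set.range j.left) := by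
  obtain ⟨W, w, hw, hWr, hrange⟩ := Groth.L00.ReducedSub.exists_reduced C hC.isLocallyClosed
  haveI := hw
  haveI := hWr
  haveI : LocallyOfFiniteType (w ≫ X.hom) := inferInstance
  haveI : IsLocallyNoetherian W := LocallyOfFiniteType.isLocallyNoetherian (w ≫ X.hom)
  haveI : LocallyOfFinitePresentation (w ≫ X.hom) := inferInstance
  obtain ⟨x, hx⟩ := hne
  haveI : Nonempty W := by
    obtain ⟨v, -⟩ := hrange.symm.subset hx
    exact ⟨v⟩
  obtain ⟨v, hv⟩ := (w ≫ X.hom).dense_smoothLocus_of_perfectField.nonempty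
  let U := (w ≫ X.hom).smoothLocus
  haveI : Smooth (U.ι ≫ w ≫ X.hom) := by
    rw [← Scheme.Hom.smoothLocus_eq_top_iff, ← Scheme.Hom.preimage_smoothLocus_eq, Scheme.Opens.ι_preimage_self]
  haveI : IsLocallyNoetherian U.toScheme := LocallyOfFiniteType.isLocallyNoetherian (U.ι ≫ w ≫ X.hom)
  haveI := Groth.L21.Smooth.isDomain_stalk (U.ι ≫ w ≫ X.hom) ⟨v, hv⟩
  obtain ⟨V, hvV, hV, hint⟩ := Groth.L07.RatSection.exists_integral_nhd (X := U.toScheme) ⟨v, hv⟩
  haveI : IsAffine V.toScheme := hV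
  haveI := hint
  let P : Over (Spec (CommRingCat.of K)) := Over.mk (V.ι ≫ U.ι ≫ w ≫ X.hom)
  let j : P ⟶ X := Over.homMk (V.ι ≫ U.ι ≫ w) (by simp [P])
  haveI : IsImmersion j.left := inferInstanceAs (IsImmersion (V.ι ≫ U.ι ≫ w))
  haveI : IsIntegral P.left := hint
  haveI : Smooth P.hom := inferInstanceAs (Smooth (V.ι ≫ U.ι ≫ w ≫ X.hom))
  haveI : QuasiCompact P.hom :=
    (HasAffineProperty.iff_of_isAffine (P := @QuasiCompact)).mpr (inferInstanceAs (CompactSpace V.toScheme))
  obtain ⟨O, hO, hOe⟩ := w.isEmbedding.isInducing.isOpen_iff.1 (V.ι ≫ U.ι).isOpenEmbedding.isOpen_range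
  have hr : Set.range j.left = C ∩ O := by
    rw [← hrange, ← Set.image_preimage_eq_range_inter, hOe, ← Set.range_comp]
    rfl
  refine ⟨P, j, inferInstance, inferInstance, inferInstance, inferInstance, hr.subset.trans Set.inter_subset_left,
    ⟨_, Set.mem_range_self (⟨⟨v, hv⟩, hvV⟩ : V.toScheme)⟩, ?_⟩
  rw [hr, Set.sdiff_self_inter]
  exact hC.sdiff hO

/-- Closed subsets are covered by finitely many smooth integral subvarieties. -/
theorem exists_smooth_cover {X : Over (Spec (CommRingCat.of K))} [LocallyOfFiniteType X.hom] [QuasiCompact X.hom]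
    (C : Closeds X.left) :
    ∃ (m : ℕ) (P : Fin m → Over (Spec (CommRingCat.of K))) (j : ∀ i, P i ⟶ X),
      (∀ i, IsImmersion (j i).left ∧ IsIntegral (P i).left ∧ Smooth (P i).hom ∧ QuasiCompact (P i).hom) ∧
      (∀ i, Set.range (j i).left ⊆ (C : Set X.left)) ∧
      ∀ x ∈ C, ∃ i, x ∈ Set.range (j i).left := by
  haveI : IsLocallyNoetherian X.left := LocallyOfFiniteType.isLocallyNoetherian X.hom
  haveI : CompactSpace X.left := QuasiCompact.compactSpace_of_compactSpace X.hom
  haveI : IsNoetherian X.left := {}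
  induction C using WellFoundedLT.induction with
  | _ C ih =>
    rcases Set.eq_empty_or_nonempty (C : Set X.left) with h | h
    · exact ⟨0, Fin.elim0, fun i => i.elim0, fun i => i.elim0, fun i => i.elim0,
        fun x hx => absurd hx (by rw [← SetLike.mem_coe, h]; exact Set.notMem_empty x)⟩
    obtain ⟨P, j, h1, h2, h3, h4, hsub, ⟨y, hy⟩, hcl⟩ := exists_smooth_piece (C : Set X.left) C.isClosed h
    obtain ⟨m, Q, q, hq, hqs, hqc⟩ := ih ⟨(C : Set X.left) \ Set.range j.left, hcl⟩
      (lt_of_le_of_ne (fun x hx => hx.1) fun e => by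
        have hy' : y ∈ C := hsub hy
        rw [← e] at hy'
        exact hy'.2 hy)
    refine ⟨m + 1, Fin.cons (α := fun _ => Over (Spec (CommRingCat.of K))) P Q,
      Fin.cases (motive := fun i => (Fin.cons (α := fun _ => Over (Spec (CommRingCat.of K))) P Q i) ⟶ X) j q,
      fun i => ?_, fun i => ?_, fun x hx => ?_⟩
    · induction i using Fin.cases with
      | zero => exact ⟨h1, h2, h3, h4⟩
      | succ i => exact hq i
    · induction i using Fin.cases with
      | zero => exact hsub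
      | succ i => exact (hqs i).trans fun x hx => hx.1
    · by_cases hxj : x ∈ Set.range j.left
      · exact ⟨0, hxj⟩
      · obtain ⟨i, hi⟩ := hqc x ⟨hx, hxj⟩
        exact ⟨i.succ, hi⟩

theorem dim_le_of_range_subset {X P : Scheme.{u}} (j : P ⟶ X) [IsImmersion j] (Y : Set X)
    (h : Set.range j ⊆ Y) : topologicalKrullDim P ≤ topologicalKrullDim Y := by
  rw [← Groth.L22.SchemeDim.topologicalKrullDim_eq_of_isEmbedding j.isEmbedding rfl]
  exact Groth.L22.SchemeDim.topologicalKrullDim_mono h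

/-- An irreducible closed set has the dimension of any relatively open piece around its generic point. -/
theorem dim_le_of_mem_locallyClosed {X : Over (Spec (CommRingCat.of K))} [LocallyOfFiniteType X.hom]
    (ξ : X.left) (R : Set X.left) (hR : IsLocallyClosed R) (hξ : ξ ∈ R) :
    topologicalKrullDim (closure ({ξ} : Set X.left)) ≤ topologicalKrullDim R := by
  obtain ⟨O, Z, hO, hZ, rfl⟩ := hR
  obtain ⟨W, w, hw, hWr, hrange⟩ :=
    Groth.L00.ReducedSub.exists_reduced (closure ({ξ} : Set X.left)) isClosed_closure.isLocallyClosed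
  haveI := hw
  letI : W.Over (Spec (CommRingCat.of K)) := ⟨w ≫ X.hom⟩
  haveI : LocallyOfFiniteType (W ↘ Spec (CommRingCat.of K)) := inferInstanceAs (LocallyOfFiniteType (w ≫ X.hom))
  haveI : IrreducibleSpace W := by
    rw [irreducibleSpace_def]
    haveI : IrreducibleSpace (Set.range w) := Subtype.irreducibleSpace (by rw [hrange]; exact isIrreducible_singleton.closure)
    have h := ((irreducibleSpace_def (Set.range w)).1 inferInstance).image w.isEmbedding.toHomeomorph.symm
      w.isEmbedding.toHomeomorph.symm.continuous.continuousOn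
    simp only [Set.top_eq_univ, Set.image_univ, EquivLike.range_eq_univ] at h ⊢
    exact h
  obtain ⟨n, hn, -, hU⟩ := Groth.L22.SchemeDim.exists_dim_eq_trdeg K W
  obtain ⟨v, hv⟩ := hrange.symm.subset (subset_closure (Set.mem_singleton ξ))
  rw [← Groth.L22.SchemeDim.topologicalKrullDim_eq_of_isEmbedding w.isEmbedding hrange] at hn
  rw [hn, ← hU ⟨w ⁻¹' O, hO.preimage w.continuous⟩ ⟨v, show w v ∈ O from hv.symm ▸ hξ.1⟩]
  refine le_of_eq_of_le ((Groth.L22.SchemeDim.topologicalKrullDim_eq_of_isEmbedding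
    (f := fun x : (w ⁻¹' O : Set W) => w x.1) (w.isEmbedding.comp .subtypeVal) rfl).symm)
    (Groth.L22.SchemeDim.topologicalKrullDim_mono ?_)
  rintro _ ⟨⟨y, hy⟩, rfl⟩
  exact ⟨hy, (closure_minimal (Set.singleton_subset_iff.2 hξ.2) hZ) (hrange.subset ⟨y, rfl⟩)⟩

variable [CharZero K] {G X : Over (Spec (CommRingCat.of K))} [GrpObj G]
  [IsIntegral G.left] [LocallyOfFiniteType G.hom] [QuasiCompact G.hom]
  [IsIntegral X.left] [IsSeparated X.hom] [LocallyOfFiniteType X.hom] [QuasiCompact X.hom]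

/-- Proper intersection of a general translate. -/
theorem exists_open_proper_inter (a : AlgGrp.Action G X)
    (htr : ∀ x x' : 𝟙_ (Over (Spec (CommRingCat.of K))) ⟶ X, ∃ σ, lift σ x ≫ a.act = x')
    (Y₁ Y₂ : Set X.left) (h₁c : IsClosed Y₁) (h₁i : IsIrreducible Y₁) (h₂c : IsClosed Y₂) (h₂i : IsIrreducible Y₂)
    (n r s : ℕ) (hn : topologicalKrullDim X.left = n) (hr : topologicalKrullDim Y₁ = r)
    (hs : topologicalKrullDim Y₂ = s) :
    ∃ V : G.left.Opens, (V : Set G.left).Nonempty ∧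
      ∀ σ : 𝟙_ (Over (Spec (CommRingCat.of K))) ⟶ G, Set.range ⇑σ.left.base ⊆ (V : Set G.left) →
        ⇑(lift (toUnit X ≫ σ) (𝟙 X) ≫ a.act).left.base '' Y₁ ∩ Y₂ = ∅ ∨
        (n ≤ r + s ∧ ∀ C ∈ irreducibleComponents
            ↥(⇑(lift (toUnit X ≫ σ) (𝟙 X) ≫ a.act).left.base '' Y₁ ∩ Y₂),
          topologicalKrullDim ↥C = ((r + s - n : ℕ) : WithBot ℕ∞)) := by
  classical
  haveI : Smooth X.hom := smooth_homogeneous a htr
  obtain ⟨m₁, P, j, hP, hPs, hPc⟩ := exists_smooth_cover (X := X) ⟨Y₁, h₁c⟩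
  obtain ⟨m₂, Q, g, hQ, hQs, hQc⟩ := exists_smooth_cover (X := X) ⟨Y₂, h₂c⟩
  have hdP : ∀ i, ∃ d : ℕ, topologicalKrullDim (P i).left = d ∧ d ≤ r := fun i => by
    obtain ⟨h1, h2, h3, h4⟩ := hP i
    obtain ⟨d, hd, -⟩ := exists_dim_nat (P i).hom
    refine ⟨d, hd, ?_⟩
    have h := dim_le_of_range_subset (j i).left Y₁ (hPs i)
    rw [hd, hr] at h
    exact_mod_cast h
  have hdQ : ∀ i, ∃ d : ℕ, topologicalKrullDim (Q i).left = d ∧ d ≤ s := fun i => by
    obtain ⟨h1, h2, h3, h4⟩ := hQ i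
    obtain ⟨d, hd, -⟩ := exists_dim_nat (Q i).hom
    refine ⟨d, hd, ?_⟩
    have h := dim_le_of_range_subset (g i).left Y₂ (hQs i)
    rw [hd, hs] at h
    exact_mod_cast h
  choose dP hdP hdPr using hdP
  choose dQ hdQ hdQs using hdQ
  have hV : ∀ (i : Fin m₁) (l : Fin m₂), ∃ V : G.left.Opens, (V : Set G.left).Nonempty ∧
      ∀ σ : 𝟙_ (Over (Spec (CommRingCat.of K))) ⟶ G, Set.range σ.left.base ⊆ (V : Set G.left) →
        Smooth (pullback.fst (lift (toUnit (P i) ≫ σ) (j i) ≫ a.act).left (g l).left ≫ (P i).hom) ∧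
          ∀ z : ↥(pullback (lift (toUnit (P i) ≫ σ) (j i) ≫ a.act).left (g l).left), ∃ e : ℕ, e + n = dP i + dQ l ∧
            FlatMor.fibreDimAt (pullback.fst (lift (toUnit (P i) ≫ σ) (j i) ≫ a.act).left (g l).left ≫ (P i).hom) z = e := fun i l => by
    obtain ⟨h1, h2, h3, h4⟩ := hP i
    obtain ⟨k1, k2, k3, k4⟩ := hQ l
    exact exists_open_translate a htr (j i) (g l) n (dP i) (dQ l) hn (hdP i) (hdQ l)
  choose V hVne hV using hV
  refine ⟨⟨⋂ (i : Fin m₁) (l : Fin m₂), (V i l : Set G.left),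
    isOpen_iInter_of_finite fun i => isOpen_iInter_of_finite fun l => (V i l).2⟩,
    ⟨genericPoint G.left, Set.mem_iInter.2 fun i => Set.mem_iInter.2 fun l => ?_⟩, fun σ hσ => ?_⟩
  · obtain ⟨y, hy⟩ := hVne i l
    exact ((genericPoint_spec G.left).specializes (Set.mem_univ y)).mem_open (V i l).2 hy
  let φ : X ⟶ X := lift (toUnit X ≫ σ) (𝟙 X) ≫ a.act
  haveI : IsIso φ.left := Groth.L08.Homog.isIso_A a σ
  show φ.left '' Y₁ ∩ Y₂ = ∅ ∨ _
  have hcl : IsClosed (φ.left '' Y₁) := φ.left.homeomorph.isClosedMap _ h₁c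
  have hir : IsIrreducible (φ.left '' Y₁) := h₁i.image _ φ.left.continuous.continuousOn
  have hdim : topologicalKrullDim ↥(φ.left '' Y₁) = r := by
    rw [← hr]
    exact Groth.L22.SchemeDim.topologicalKrullDim_eq_of_isEmbedding
      (φ.left.homeomorph.isEmbedding.comp .subtypeVal) (by rw [Set.range_comp, Subtype.range_coe]; rfl)
  rcases Set.eq_empty_or_nonempty (φ.left '' Y₁ ∩ Y₂) with h | h
  · exact Or.inl h
  refine Or.inr ?_
  have key : ∀ C ∈ irreducibleComponents ↥(φ.left '' Y₁ ∩ Y₂),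
      n ≤ r + s ∧ topologicalKrullDim ↥C = ((r + s - n : ℕ) : WithBot ℕ∞) := by
    intro C hC
    have hlow := Groth.Agent.S19416.result K X.left X.hom n r s hn _ _ hcl hir h₂c h₂i hdim hs C hC
    let C' : Set X.left := Subtype.val '' C
    have hC'c : IsClosed C' :=
      (hcl.inter h₂c).isClosedMap_subtype_val C (isClosed_of_mem_irreducibleComponents C hC)
    obtain ⟨ξ, hξ⟩ := QuasiSober.sober (hC.1.image _ continuous_subtype_val.continuousOn) hC'c
    have hξC : ξ ∈ C' := hξ.mem
    obtain ⟨⟨t, ⟨y, hy, rfl⟩, ht₂⟩, -, htξ⟩ := hξC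
    obtain ⟨i, p, hp⟩ := hPc y hy
    obtain ⟨l, q, hq⟩ := hQc (φ.left y) ht₂
    let fσ := (lift (toUnit (P i) ≫ σ) (j i) ≫ a.act).left
    have hfσ : fσ = (j i).left ≫ φ.left := by
      rw [← Over.comp_left]
      exact congrArg CommaMorphism.left (Groth.L08.Homog.comp_A a (j i) σ).symm
    obtain ⟨h1, h2, h3, h4⟩ := hP i
    obtain ⟨k1, k2, k3, k4⟩ := hQ l
    obtain ⟨z, hz1, hz2⟩ := Scheme.Pullback.exists_preimage_pullback (f := fσ) (g := (g l).left) p q
      (by rw [hfσ, Scheme.Hom.comp_apply, hp, hq])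
    haveI : IsImmersion fσ := by rw [hfσ]; infer_instance
    haveI : IsImmersion (pullback.fst fσ (g l).left) := inferInstance
    let ψ := pullback.fst fσ (g l).left ≫ fσ
    obtain ⟨hsm, hdims⟩ := hV i l σ fun x hx => Set.mem_iInter.1 (Set.mem_iInter.1 (hσ hx) i) l
    haveI : Smooth (pullback.fst fσ (g l).left ≫ (P i).hom) := hsm
    obtain ⟨e, he, -⟩ := hdims z
    haveI : Nonempty ↥(pullback fσ (g l).left) := ⟨z⟩
    have hF : topologicalKrullDim ↥(pullback fσ (g l).left) = e :=
      dim_eq_of_fibreDimAt (pullback.fst fσ (g l).left ≫ (P i).hom) _ fun z' => by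
        obtain ⟨e', he', hz'⟩ := hdims z'
        rw [show e = e' by omega]
        exact hz'
    have hξR : ξ ∈ Set.range ψ := ⟨z, by
      rw [Scheme.Hom.comp_apply, hz1, hfσ, Scheme.Hom.comp_apply, hp]
      exact htξ⟩
    have hup : topologicalKrullDim ↥C ≤ (e : WithBot ℕ∞) := by
      rw [← Groth.L22.SchemeDim.topologicalKrullDim_eq_of_isEmbedding
        ((IsEmbedding.subtypeVal (p := (· ∈ φ.left '' Y₁ ∩ Y₂))).comp (IsEmbedding.subtypeVal (p := (· ∈ C))))
        (show _ = Subtype.val '' C by rw [Set.range_comp, Subtype.range_coe]), ← hξ, ← hF,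
        ← Groth.L22.SchemeDim.topologicalKrullDim_eq_of_isEmbedding ψ.isEmbedding rfl]
      exact dim_le_of_mem_locallyClosed ξ _ ψ.isLocallyClosed_range hξR
    have hle : e ≤ r + s - n := by have := hdPr i; have := hdQs l; omega
    refine ⟨by have := hdPr i; have := hdQs l; omega, le_antisymm (hup.trans (by exact_mod_cast hle)) ?_⟩
    have hup' := hup
    generalize topologicalKrullDim ↥C = d at hlow hup hup'
    induction d using WithBot.recBotCoe with
    | bot => simp at hlow
    | coe d =>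
      induction d using ENat.recTopCoe with
      | top => exact le_top
      | coe d =>
        have : r + s ≤ d + n := by exact_mod_cast hlow
        exact WithBot.coe_le_coe.2 (Nat.cast_le.2 (show r + s - n ≤ d by omega))
  obtain ⟨x, hx⟩ := h
  exact ⟨(key _ (irreducibleComponent_mem_irreducibleComponents ⟨x, hx⟩)).1, fun C hC => (key C hC).2⟩

end Groth.L24.Kleiman
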