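import Groth.Agent.L22.SchemeDim
import Groth.Agent.L22.FibreSemicont
import Groth.Agent.L22.FibreDim
import Groth.Agent.L23.FibreDimBC
import Groth.Agent.L23.LocalDimEtale
import Groth.Agent.L23.SpaceFibreDim
import Groth.Agent.S4992

/-!
# Fibre dimensions of varieties over a field
-/

set_option autoImplicit false
set_option linter.style.haveILetI false
set_option backward.isDefEq.respectTransparency.types false

universe u

open CategoryTheory CategoryTheory.Limits AlgebraicGeometry TopologicalSpace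

namespace Groth.L24.Kleiman

variable {K : Type u} [Field K] {X : Scheme.{u}} (f : X ⟶ Spec (CommRingCat.of K))

theorem exists_dim_nat [IsIntegral X] [LocallyOfFiniteType f] :
    ∃ n : ℕ, topologicalKrullDim X = n ∧ ∀ x : X, FlatMor.fibreDimAt f x = n := by
  letI : X.Over (Spec (CommRingCat.of K)) := ⟨f⟩
  haveI : LocallyOfFiniteType (X ↘ Spec (CommRingCat.of K)) := ‹LocallyOfFiniteType f›
  obtain ⟨n, hn, -, hU⟩ := Groth.L22.SchemeDim.exists_dim_eq_trdeg K X
  refine ⟨n, hn, fun x => ?_⟩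
  rw [Groth.L23.SpDim.fibreDimAt_eq_localDim_of_subsingleton]
  refine le_antisymm (iInf_le_of_le ⟨⊤, trivial⟩ ((hU ⊤ ⟨x, trivial⟩).le)) (le_iInf fun U => ?_)
  exact (hU U.1 ⟨x, U.2⟩).ge

theorem dim_eq_of_fibreDimAt [LocallyOfFiniteType f] [Nonempty X] (m : WithBot ℕ∞)
    (h : ∀ x : X, FlatMor.fibreDimAt f x = m) : topologicalKrullDim X = m := by
  letI : X.Over (Spec (CommRingCat.of K)) := ⟨f⟩
  haveI : LocallyOfFiniteType (X ↘ Spec (CommRingCat.of K)) := ‹LocallyOfFiniteType f›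
  refine le_antisymm ?_ ?_
  · rw [Groth.L22.FibreDim.topologicalKrullDim_eq_iSup_closure]
    refine iSup_le fun w => ?_
    rw [← h w, Groth.L23.SpDim.fibreDimAt_eq_localDim_of_subsingleton, Groth.L22.FibreSemicont.localDim_eq_iSup K]
    exact le_iSup_of_le ⟨w, specializes_refl w⟩ le_rfl
  · rw [← h (Classical.arbitrary X), Groth.L23.SpDim.fibreDimAt_eq_localDim_of_subsingleton]
    exact iInf_le_of_le ⟨⊤, trivial⟩ (topologicalKrullDim_subspace_le _ _)

theorem add_eq_natCast {a : WithBot ℕ∞} {n N : ℕ} (h : a + (n : WithBot ℕ∞) = (N : WithBot ℕ∞)) :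
    ∃ e : ℕ, a = e ∧ e + n = N := by
  induction a using WithBot.recBotCoe with
  | bot => simp at h
  | coe a =>
    have h' : a + (n : ℕ∞) = (N : ℕ∞) := by
      have : ((a + (n : ℕ∞) : ℕ∞) : WithBot ℕ∞) = ((N : ℕ∞) : WithBot ℕ∞) := h
      exact WithBot.coe_inj.1 this
    induction a using ENat.recTopCoe with
    | top => simp at h'
    | coe e => exact ⟨e, rfl, by exact_mod_cast h'⟩

theorem fibreDimAt_openImmersion_comp {Y Z : Scheme.{u}} (j : Y ⟶ Z) [IsOpenImmersion j] {S : Scheme.{u}}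
    (g : Z ⟶ S) (y : Y) : FlatMor.fibreDimAt (j ≫ g) y = FlatMor.fibreDimAt g (j y) :=
  Groth.L23.fibreDimAt_etale_comp j g y

end Groth.L24.Kleiman
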