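import Groth.Agent.L24.Kleiman.Smooth
import Groth.Agent.L24.Kleiman.Dim
import Groth.Agent.L07.RatSection
import Groth.Agent.L21.Smooth.Scheme

/-!
# Generic transversality of translates
-/

set_option autoImplicit false
set_option linter.style.haveILetI false
set_option backward.isDefEq.respectTransparency.types false

universe u

open CategoryTheory CategoryTheory.Limits MonoidalCategory CartesianMonoidalCategory MonObj AlgebraicGeometry

namespace Groth.L24.Kleiman

variable {K : Type u} [Field K] [CharZero K]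

/-- A morphism from a smooth variety, possibly reducible, is smooth over a non-empty open of an integral target. -/
theorem exists_smooth_over {W G : Scheme.{u}} (qW : W ⟶ Spec (CommRingCat.of K))
    (qG : G ⟶ Spec (CommRingCat.of K)) [Smooth qW] [QuasiCompact qW] [LocallyOfFiniteType qG]
    [QuasiCompact qG] [IsIntegral G] (p : W ⟶ G) (hp : p ≫ qG = qW) :
    ∃ V : G.Opens, (V : Set G).Nonempty ∧ Smooth ((p ⁻¹ᵁ V).ι ≫ p) := by
  classical
  haveI : IsLocallyNoetherian W := LocallyOfFiniteType.isLocallyNoetherian qW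
  haveI : IsLocallyNoetherian G := LocallyOfFiniteType.isLocallyNoetherian qG
  haveI : CompactSpace W := QuasiCompact.compactSpace_of_compactSpace qW
  haveI : LocallyOfFiniteType (p ≫ qG) := hp ▸ inferInstance
  haveI : LocallyOfFiniteType p := locallyOfFiniteType_of_comp p qG
  haveI : LocallyOfFinitePresentation p := inferInstance
  have key : ∀ w : W, ∃ (U : W.Opens) (V : G.Opens), w ∈ U ∧ (V : Set G).Nonempty ∧
      ∀ z ∈ U, p z ∈ V → z ∈ p.smoothLocus := by
    intro w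
    haveI := Groth.L21.Smooth.isDomain_stalk qW w
    obtain ⟨U, hwU, hU, hint⟩ := Groth.L07.RatSection.exists_integral_nhd w
    haveI := hint
    haveI : IsAffine (U : Scheme.{u}) := hU
    haveI : Smooth (U.ι ≫ qW) := inferInstance
    haveI : QuasiCompact (U.ι ≫ qW) := (HasAffineProperty.iff_of_isAffine (P := @QuasiCompact)).mpr inferInstance
    by_cases hd : IsDominant (U.ι ≫ p)
    · obtain ⟨V, hV, hs⟩ := Groth.L16.GenSmooth.exists_smooth_restrict (U.ι ≫ qW) qG (U.ι ≫ p)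
        (by rw [Category.assoc, hp])
      refine ⟨U, V, hwU, hV.nonempty, fun z hzU hzV => ?_⟩
      haveI := hs
      have h1 : ((((U.ι ≫ p) ⁻¹ᵁ V).ι ≫ U.ι) ⁻¹ᵁ p.smoothLocus) = ⊤ := by
        rw [Scheme.Hom.preimage_smoothLocus_eq, Scheme.Hom.smoothLocus_eq_top_iff]
        have e : (((U.ι ≫ p) ⁻¹ᵁ V).ι ≫ U.ι) ≫ p = (U.ι ≫ p) ∣_ V ≫ V.ι := by
          rw [morphismRestrict_ι, Category.assoc]
        rw [e]
        infer_instance
      let z' : ((U.ι ≫ p) ⁻¹ᵁ V).toScheme := ⟨⟨z, hzU⟩, hzV⟩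
      have h2 : z' ∈ (((U.ι ≫ p) ⁻¹ᵁ V).ι ≫ U.ι) ⁻¹ᵁ p.smoothLocus := h1.ge trivial
      exact h2
    · refine ⟨U, ⟨(closure (Set.range (U.ι ≫ p)))ᶜ, isClosed_closure.isOpen_compl⟩, hwU, ?_,
        fun z hzU hzV => absurd (subset_closure (show p z ∈ Set.range (U.ι ≫ p) from ⟨⟨z, hzU⟩, rfl⟩)) hzV⟩
      rw [Set.nonempty_iff_ne_empty]
      intro h
      exact hd ⟨dense_iff_closure_eq.2 (Set.compl_empty_iff.1 h)⟩
  choose U V hU hV hs using key
  obtain ⟨t, ht⟩ := CompactSpace.isCompact_univ.elim_finite_subcover (fun w => (U w : Set W))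
    (fun w => (U w).2) (fun w _ => Set.mem_iUnion.2 ⟨w, hU w⟩)
  let V₀ : G.Opens := ⟨⋂ w ∈ t, (V w : Set G), isOpen_biInter_finset fun w _ => (V w).2⟩
  refine ⟨V₀, ⟨genericPoint G, Set.mem_iInter₂.2 fun w _ => ?_⟩, ?_⟩
  · obtain ⟨y, hy⟩ := hV w
    exact ((genericPoint_spec G).specializes (Set.mem_univ y)).mem_open (V w).2 hy
  · rw [← Scheme.Hom.smoothLocus_eq_top_iff, ← Scheme.Hom.preimage_smoothLocus_eq, eq_top_iff]
    intro z _
    obtain ⟨w, hw, hzw⟩ := Set.mem_iUnion₂.1 (ht (Set.mem_univ ((p ⁻¹ᵁ V₀).ι z)))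
    exact hs w _ hzw (Set.mem_iInter₂.1 z.2 w hw)

theorem isPullback_lift_point {G Y : Over (Spec (CommRingCat.of K))} (σ : 𝟙_ (Over (Spec (CommRingCat.of K))) ⟶ G) :
    IsPullback (lift (toUnit Y ≫ σ) (𝟙 Y)).left Y.hom (fst G Y).left σ.left := by
  refine IsPullback.of_right (h₁₂ := (snd G Y).left) (v₁₃ := Y.hom) (h₂₂ := G.hom) ?_ ?_
    (Groth.L19.AlgGrpBasic.isPullback_left G Y).flip
  · rw [← Over.comp_left, lift_snd, Over.w σ]
    show IsPullback (𝟙 Y.left) Y.hom Y.hom (𝟙 _)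
    exact IsPullback.of_horiz_isIso ⟨by simp⟩
  · rw [← Over.comp_left, lift_fst, Over.comp_left]
    rfl

variable [IsAlgClosed K] {G X Y Z : Over (Spec (CommRingCat.of K))} [GrpObj G]
  [IsIntegral G.left] [LocallyOfFiniteType G.hom] [QuasiCompact G.hom]
  [IsIntegral X.left] [LocallyOfFiniteType X.hom] [QuasiCompact X.hom]
  [IsIntegral Y.left] [Smooth Y.hom] [QuasiCompact Y.hom]
  [IsIntegral Z.left] [Smooth Z.hom] [QuasiCompact Z.hom]

/-- A general translate meets smoothly and in the expected dimension. -/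
theorem exists_open_translate (a : AlgGrp.Action G X)
    (htr : ∀ x x' : 𝟙_ (Over (Spec (CommRingCat.of K))) ⟶ X, ∃ σ, lift σ x ≫ a.act = x')
    (f : Y ⟶ X) (g : Z ⟶ X) (n r s : ℕ) (hn : topologicalKrullDim X.left = n)
    (hr : topologicalKrullDim Y.left = r) (hs : topologicalKrullDim Z.left = s) :
    ∃ V : G.left.Opens, (V : Set G.left).Nonempty ∧
      ∀ σ : 𝟙_ (Over (Spec (CommRingCat.of K))) ⟶ G, Set.range σ.left.base ⊆ (V : Set G.left) →
        Smooth (pullback.fst (lift (toUnit Y ≫ σ) f ≫ a.act).left g.left ≫ Y.hom) ∧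
          ∀ z : ↥(pullback (lift (toUnit Y ≫ σ) f ≫ a.act).left g.left), ∃ e : ℕ, e + n = r + s ∧
            FlatMor.fibreDimAt (pullback.fst (lift (toUnit Y ≫ σ) f ≫ a.act).left g.left ≫ Y.hom) z = e := by
  haveI : Smooth G.hom := smooth_group
  haveI : Smooth X.hom := smooth_homogeneous a htr
  haveI := smooth_evalMap a htr f
  haveI : Smooth (snd G Y).left := MorphismProperty.pullback_snd G.hom Y.hom inferInstance
  haveI : Smooth (G ⊗ Y).hom := inferInstanceAs (Smooth (pullback.fst G.hom Y.hom ≫ G.hom))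
  haveI : QuasiCompact (G ⊗ Y).hom := inferInstanceAs (QuasiCompact (pullback.fst G.hom Y.hom ≫ G.hom))
  obtain ⟨dG, -, hG⟩ := exists_dim_nat G.hom
  obtain ⟨n', hn', hX⟩ := exists_dim_nat X.hom
  obtain rfl : n' = n := by exact_mod_cast hn'.symm.trans hn
  obtain ⟨r', hr', hY⟩ := exists_dim_nat Y.hom
  obtain rfl : r' = r := by exact_mod_cast hr'.symm.trans hr
  obtain ⟨s', hs', hZ⟩ := exists_dim_nat Z.hom
  obtain rfl : s' = s := by exact_mod_cast hs'.symm.trans hs
  let h := (evalMap a f).left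
  let qW : pullback h g.left ⟶ Spec (CommRingCat.of K) := pullback.snd h g.left ≫ Z.hom
  haveI : Smooth qW := inferInstance
  haveI : QuasiCompact g.left := Groth.L19.AlgGrpBasic.qc_left_field g
  haveI : QuasiCompact h := Groth.L19.AlgGrpBasic.qc_left_field (evalMap a f)
  haveI : QuasiCompact qW := inferInstance
  let p : pullback h g.left ⟶ G.left := pullback.fst h g.left ≫ (fst G Y).left
  have hqW : pullback.fst h g.left ≫ (G ⊗ Y).hom = qW := by
    rw [← Over.w (evalMap a f), ← Category.assoc, pullback.condition, Category.assoc, Over.w g]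
  have hp : p ≫ G.hom = qW := by rw [Category.assoc, Over.w, hqW]
  obtain ⟨V, hV, hsm⟩ := exists_smooth_over qW G.hom p hp
  haveI := hsm
  refine ⟨V, hV, fun σ hσ => ?_⟩
  let τ : Y ⟶ G ⊗ Y := lift (toUnit Y ≫ σ) (𝟙 Y)
  let fσ := (lift (toUnit Y ≫ σ) f ≫ a.act).left
  have hf : τ.left ≫ h = fσ := by
    rw [← Over.comp_left]
    congr 1
    simp [τ, evalMap, lift_whiskerLeft_assoc]
  let ψ : pullback fσ g.left ⟶ pullback h g.left :=
    pullback.lift (pullback.fst fσ g.left ≫ τ.left) (pullback.snd fσ g.left)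
      (by rw [Category.assoc, hf, pullback.condition])
  have sqψ : IsPullback ψ (pullback.fst fσ g.left) (pullback.fst h g.left) τ.left := by
    refine IsPullback.of_right ?_ (pullback.lift_fst _ _ _) (IsPullback.of_hasPullback h g.left).flip
    rw [pullback.lift_snd, hf]
    exact (IsPullback.of_hasPullback fσ g.left).flip
  have sqF : IsPullback ψ (pullback.fst fσ g.left ≫ Y.hom) p σ.left :=
    sqψ.paste_vert (isPullback_lift_point σ)
  have hψ : Set.range ψ ⊆ Set.range (p ⁻¹ᵁ V).ι := by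
    rintro _ ⟨z, rfl⟩
    rw [Scheme.Opens.range_ι]
    show p (ψ z) ∈ (V : Set G.left)
    rw [← Scheme.Hom.comp_apply, sqF.w, Scheme.Hom.comp_apply]
    exact hσ ⟨_, rfl⟩
  let ψ' := IsOpenImmersion.lift (p ⁻¹ᵁ V).ι ψ hψ
  have w1 : ψ' ≫ (p ⁻¹ᵁ V).ι = ψ := IsOpenImmersion.lift_fac _ _ _
  have sq1 : IsPullback ψ' (𝟙 _) (p ⁻¹ᵁ V).ι ψ := by
    refine ⟨⟨by rw [w1, Category.id_comp]⟩, ⟨PullbackCone.IsLimit.mk _ (fun c => c.snd) (fun c => ?_)
      (fun c => Category.comp_id _) fun c m _ h2 => (Category.comp_id m).symm.trans h2⟩⟩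
    rw [← cancel_mono (p ⁻¹ᵁ V).ι, Category.assoc, w1, c.condition]
  have sq2 : IsPullback ψ' (pullback.fst fσ g.left ≫ Y.hom) ((p ⁻¹ᵁ V).ι ≫ p) σ.left := by
    have := sq1.paste_vert sqF
    rwa [Category.id_comp] at this
  refine ⟨MorphismProperty.of_isPullback sq2 hsm, fun z => ?_⟩
  let w := (p ⁻¹ᵁ V).ι (ψ' z)
  let x := pullback.fst h g.left w
  have h1 : FlatMor.fibreDimAt qW w = FlatMor.fibreDimAt h x + (s' : WithBot ℕ∞) := by
    rw [Groth.Agent.S4992.result (pullback.snd h g.left) Z.hom w, hZ,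
      Groth.L23.fibreDimAt_of_isPullback (IsPullback.of_hasPullback h g.left) w]
  have h2 : FlatMor.fibreDimAt h x + (n' : WithBot ℕ∞) = ((dG + r' : ℕ) : WithBot ℕ∞) := by
    have e1 := Groth.Agent.S4992.result h X.hom x
    rw [hX, show h ≫ X.hom = (G ⊗ Y).hom from Over.w (evalMap a f),
      ← Over.w (snd G Y), Groth.Agent.S4992.result (snd G Y).left Y.hom x, hY,
      Groth.L23.fibreDimAt_of_isPullback (Groth.L19.AlgGrpBasic.isPullback_left G Y) x, hG] at e1
    rw [← e1]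
    push_cast
    rfl
  obtain ⟨e, he, hen⟩ := add_eq_natCast h2
  have h3 : FlatMor.fibreDimAt ((p ⁻¹ᵁ V).ι ≫ p) (ψ' z) + (dG : WithBot ℕ∞) = ((e + s' : ℕ) : WithBot ℕ∞) := by
    have e1 := Groth.Agent.S4992.result ((p ⁻¹ᵁ V).ι ≫ p) G.hom (ψ' z)
    rw [hG, Category.assoc, hp, fibreDimAt_openImmersion_comp, h1, he] at e1
    rw [← e1]
    push_cast
    rfl
  obtain ⟨d, hd, hdG⟩ := add_eq_natCast h3
  refine ⟨d, by omega, ?_⟩
  rw [Groth.L23.fibreDimAt_of_isPullback sq2 z, hd]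

end Groth.L24.Kleiman
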