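import Groth.Agent.L16.GenSmooth.Basic
import Groth.Agent.L19.AlgGrpBasic.Transitive
import Groth.Agent.L19.AlgGrpBasic.OrbitSmooth
import Groth.Agent.L08.Cube.SliceFibre
import Mathlib.AlgebraicGeometry.Group.Smooth

/-!
# Translating generic smoothness along a transitive action in characteristic zero
-/

set_option autoImplicit false
set_option linter.style.haveILetI false
set_option backward.isDefEq.respectTransparency.types false

universe u

open CategoryTheory CategoryTheory.Limits MonoidalCategory CartesianMonoidalCategory MonObj AlgebraicGeometry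

namespace Groth.L24.Kleiman

variable {K : Type u} [Field K] {G X Y : Over (Spec (CommRingCat.of K))} [GrpObj G]

/-- The action of a group on its product with a scheme, through the first factor. -/
noncomputable def leftAct (G Y : Over (Spec (CommRingCat.of K))) [GrpObj G] : AlgGrp.Action G (G ⊗ Y) where
  act := lift (fst G (G ⊗ Y) * (snd G (G ⊗ Y) ≫ fst G Y)) (snd G (G ⊗ Y) ≫ snd G Y)
  one_act := by
    apply CartesianMonoidalCategory.hom_ext
    · have e : fst (𝟙_ (Over (Spec (CommRingCat.of K)))) (G ⊗ Y) ≫ η[G] = 1 := by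
        rw [Hom.one_def, toUnit_unique (fst _ _) (toUnit _)]
      simp [MonObj.comp_mul, leftUnitor_hom, e]
    · simp [leftUnitor_hom]
  mul_act := by
    apply CartesianMonoidalCategory.hom_ext
    · have e : fst (G ⊗ G) (G ⊗ Y) ≫ μ[G] =
          (fst (G ⊗ G) (G ⊗ Y) ≫ fst G G) * (fst (G ⊗ G) (G ⊗ Y) ≫ snd G G) := by
        rw [← MonObj.comp_mul, Hom.mul_def, lift_fst_snd, Category.id_comp]
      simp [MonObj.comp_mul, e, _root_.mul_assoc]
    · simp

/-- The evaluation map `(g, y) ↦ g · f y`. -/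
noncomputable def evalMap (a : AlgGrp.Action G X) (f : Y ⟶ X) : G ⊗ Y ⟶ X := (G ◁ f) ≫ a.act

theorem evalMap_equivariant (a : AlgGrp.Action G X) (f : Y ⟶ X) :
    (G ◁ evalMap a f) ≫ a.act = (leftAct G Y).act ≫ evalMap a f := by
  have e : ∀ (T : Over (Spec (CommRingCat.of K))) (g h : T ⟶ G) (y : T ⟶ Y),
      lift g (lift h (y ≫ f) ≫ a.act) ≫ a.act = lift (g * h) (y ≫ f) ≫ a.act := fun T g h y =>
    (Groth.L19.AlgGrpBasic.act_mul a g h (y ≫ f)).symm
  have hl : (G ◁ evalMap a f) = lift (fst G (G ⊗ Y))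
      (lift (snd G (G ⊗ Y) ≫ fst G Y) ((snd G (G ⊗ Y) ≫ snd G Y) ≫ f) ≫ a.act) := by
    apply CartesianMonoidalCategory.hom_ext
    · simp
    · simp only [evalMap, whiskerLeft_snd, lift_snd, ← Category.assoc]
      congr 1
      apply CartesianMonoidalCategory.hom_ext <;> simp
  rw [hl, e]
  simp [evalMap, leftAct, lift_whiskerLeft_assoc]

variable [IsAlgClosed K]

theorem smooth_group [IsIntegral G.left] [LocallyOfFiniteType G.hom] : Smooth G.hom := by
  haveI := Groth.L08.Cube.geometricallyIntegral_of_isAlgClosed G.hom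
  haveI : GrpObj (Over.mk G.hom) := ‹GrpObj G›
  exact smooth_of_grpObj G.hom

theorem isIntegral_tensor [IsIntegral G.left] [IsIntegral Y.left] [LocallyOfFiniteType G.hom]
    [LocallyOfFiniteType Y.hom] : IsIntegral (G ⊗ Y).left := by
  haveI := Groth.L08.Cube.geometricallyIntegral_of_isAlgClosed G.hom
  haveI := Groth.L08.Cube.geometricallyIntegral_of_isAlgClosed Y.hom
  haveI : IsLocallyNoetherian G.left := LocallyOfFiniteType.isLocallyNoetherian G.hom
  exact inferInstanceAs (IsIntegral (pullback G.hom Y.hom))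

theorem smooth_homogeneous [LocallyOfFiniteType G.hom] [LocallyOfFiniteType X.hom] [QuasiCompact X.hom]
    [QuasiCompact G.hom] [IsReduced X.left] [IsIntegral G.left] (a : AlgGrp.Action G X)
    (htr : ∀ x x' : 𝟙_ (Over (Spec (CommRingCat.of K))) ⟶ X, ∃ σ, lift σ x ≫ a.act = x') : Smooth X.hom := by
  rw [← Category.id_comp X.hom]
  rcases isEmpty_or_nonempty X.left with h | h
  · haveI : IsEmpty X.left := h
    infer_instance
  haveI := LocallyOfFiniteType.jacobsonSpace X.hom
  obtain ⟨p, -, hp⟩ := nonempty_inter_closedPoints (Set.univ_nonempty (α := X.left)) isClosed_univ.isLocallyClosed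
  obtain ⟨x, rfl⟩ := Groth.L19.AlgGrpBasic.exists_point_of_closed hp
  refine Groth.L19.AlgGrpBasic.smooth_orbit_algClosed a x (𝟙 X.left) ?_
  haveI : LocallyOfFiniteType (G ⊗ 𝟙_ (Over (Spec (CommRingCat.of K)))).hom :=
    inferInstanceAs (LocallyOfFiniteType (pullback.fst G.hom (𝟙 _) ≫ G.hom))
  haveI : QuasiCompact (G ⊗ 𝟙_ (Over (Spec (CommRingCat.of K)))).hom :=
    inferInstanceAs (QuasiCompact (pullback.fst G.hom (𝟙 _) ≫ G.hom))
  haveI : Nonempty (G ⊗ 𝟙_ (Over (Spec (CommRingCat.of K)))).left :=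
    ⟨(ρ_ G).inv.left (Classical.arbitrary G.left)⟩
  have := Groth.L19.AlgGrpBasic.surjective_of_transitive (leftAct G (𝟙_ (Over (Spec (CommRingCat.of K))))) a
    (evalMap a x) (evalMap_equivariant a x) htr
  have e : (ρ_ G).inv ≫ evalMap a x = a.orbitMap x := by
    have h1 : (ρ_ G).inv ≫ (G ◁ x) = lift (𝟙 G) (toUnit G ≫ x) := by
      apply CartesianMonoidalCategory.hom_ext <;> simp
    simp only [evalMap, AlgGrp.Action.orbitMap, ← h1, Category.assoc]
  haveI : Surjective (a.orbitMap x).left := by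
    rw [← e, Over.comp_left]
    infer_instance
  rw [(Scheme.Hom.surjective (a.orbitMap x).left).range_eq]
  exact Set.range_id

variable [CharZero K]

/-- The evaluation map of a smooth variety into a homogeneous space is smooth. -/
theorem smooth_evalMap [IsIntegral G.left] [LocallyOfFiniteType G.hom] [QuasiCompact G.hom]
    [IsIntegral X.left] [LocallyOfFiniteType X.hom] [QuasiCompact X.hom]
    [IsIntegral Y.left] [Smooth Y.hom] [QuasiCompact Y.hom]
    (a : AlgGrp.Action G X)
    (htr : ∀ x x' : 𝟙_ (Over (Spec (CommRingCat.of K))) ⟶ X, ∃ σ, lift σ x ≫ a.act = x')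
    (f : Y ⟶ X) : Smooth (evalMap a f).left := by
  haveI : Smooth G.hom := smooth_group
  haveI := isIntegral_tensor (G := G) (Y := Y)
  haveI : Smooth (G ⊗ Y).hom := inferInstanceAs (Smooth (pullback.fst G.hom Y.hom ≫ G.hom))
  haveI : QuasiCompact (G ⊗ Y).hom := inferInstanceAs (QuasiCompact (pullback.fst G.hom Y.hom ≫ G.hom))
  haveI : LocallyOfFiniteType (G ⊗ Y).hom := inferInstance
  haveI : Surjective (evalMap a f).left :=
    Groth.L19.AlgGrpBasic.surjective_of_transitive (leftAct G Y) a (evalMap a f) (evalMap_equivariant a f) htr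
  obtain ⟨V, hV, hs⟩ := Groth.L16.GenSmooth.exists_smooth_restrict (G ⊗ Y).hom X.hom (evalMap a f).left
    (Over.w _)
  exact Groth.L19.AlgGrpBasic.of_transitive @Smooth (leftAct G Y) a (evalMap a f) (evalMap_equivariant a f)
    htr V hV.nonempty hs

end Groth.L24.Kleiman
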